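import Cfsg.Agent.Known.StLift.SLTwo
import Cfsg.Agent.Suz.Multiplier
import Cfsg.Agent.Classical.Misc.SLTwoTori
import Mathlib

/-!
The Schur multipliers of `SL (2, 2)` and `SL (2, 3)` are trivial.
-/

set_option autoImplicit false
set_option linter.style.haveILetI false

open scoped commutatorElement

namespace Cfsg.Lib.StLift

universe u v

variable {Γ : Type u} {Q : Type v} [Group Γ] [Group Q] {σ : Γ →* Q}

/-- A quaternion Sylow subgroup of order eight contributes nothing. -/
theorem exists_sylow_quaternion [Finite Γ] [Finite Q] (hσ : Cfsg.IsStemExtension σ) [Fact (Nat.Prime 2)]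
    (P : Sylow 2 Q) (e : (P : Subgroup Q) ≃* QuaternionGroup 2) :
    ∃ S : Sylow 2 Γ, ∀ z ∈ σ.ker, z ∈ ⁅(S : Subgroup Γ), (S : Subgroup Γ)⁆ → z = 1 := by
  classical
  let f : QuaternionGroup 2 →* Q := (P : Subgroup Q).subtype.comp e.symm.toMonoidHom
  obtain ⟨a, ha⟩ : ∃ a : Q, a = f (QuaternionGroup.a 1) := ⟨_, rfl⟩
  obtain ⟨b, hb⟩ : ∃ b : Q, b = f (QuaternionGroup.xa 0) := ⟨_, rfl⟩
  have hfi : Function.Injective f := Subtype.val_injective.comp e.symm.injective
  have hgen : (P : Subgroup Q) ≤ Subgroup.closure {a, b} := by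
    intro x hx
    have h : ∀ g : QuaternionGroup 2, ∃ i : Fin 4, ∃ j : Fin 2,
        g = QuaternionGroup.a 1 ^ (i : ℕ) * QuaternionGroup.xa 0 ^ (j : ℕ) := by decide
    obtain ⟨i, j, hij⟩ := h (e ⟨x, hx⟩)
    have hx' : x = a ^ (i : ℕ) * b ^ (j : ℕ) := by
      have := congrArg f hij
      rw [map_mul, map_pow, map_pow] at this
      rw [ha, hb, ← show f (e ⟨x, hx⟩) = x from congrArg Subtype.val (e.symm_apply_apply _)]
      exact this
    rw [hx']
    exact mul_mem (pow_mem (Subgroup.subset_closure (Set.mem_insert _ _)) _)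
      (pow_mem (Subgroup.subset_closure (Set.mem_insert_of_mem _ (Set.mem_singleton b))) _)
  have hab : ⁅a, b⁆ = a ^ 2 := by
    rw [ha, hb]
    rw [← map_commutatorElement, ← map_pow]
    exact congrArg f (by decide)
  have hb2 : b ^ 2 = a ^ 2 := by
    rw [ha, hb]
    rw [← map_pow, ← map_pow]
    exact congrArg f (by decide)
  have ha2 : a ^ 2 ≠ 1 := by
    rw [ha]
    rw [← map_pow, ← map_one f]
    exact hfi.ne (by decide)
  obtain ⟨A, hA⟩ := hσ.1 a
  obtain ⟨B, hB⟩ := hσ.1 b
  obtain ⟨S, hS⟩ := Schur.exists_sylow_map_le hσ.1 (P : Subgroup Q) P.card_eq_multiplicity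
  set c := ⁅A, B⁆ with hc
  have hσc : σ c = a ^ 2 := by rw [hc, map_commutatorElement, hA, hB, hab]
  have hz1 : (A ^ 2)⁻¹ * c ∈ σ.ker := by
    rw [MonoidHom.mem_ker, map_mul, map_inv, map_pow, hA, hσc, inv_mul_cancel]
  have hz2 : (B ^ 2)⁻¹ * c ∈ σ.ker := by
    rw [MonoidHom.mem_ker, map_mul, map_inv, map_pow, hB, hσc, hb2, inv_mul_cancel]
  have hcen := fun g => Subgroup.mem_center_iff.1 (hσ.2.1 hz1) g
  have hcen2 := fun g => Subgroup.mem_center_iff.1 (hσ.2.1 hz2) g
  have hcA : Commute A c := by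
    rw [show c = A ^ 2 * ((A ^ 2)⁻¹ * c) by group]
    exact (Commute.pow_right (Commute.refl A) 2).mul_right (hcen A)
  have hcB : Commute B c := by
    rw [show c = B ^ 2 * ((B ^ 2)⁻¹ * c) by group]
    exact (Commute.pow_right (Commute.refl B) 2).mul_right (hcen2 B)
  have hc2 : c ^ 2 = 1 := by
    have e1 : ⁅A ^ 2, B⁆ = c ^ 2 := by
      rw [pow_two A, show ⁅A * A, B⁆ = A * ⁅A, B⁆ * A⁻¹ * ⁅A, B⁆ by simp only [commutatorElement_def]; group, ← hc,
        hcA.eq, mul_inv_cancel_right, pow_two]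
    rw [← e1, commutatorElement_eq_one_iff_commute]
    rw [show A ^ 2 = c * ((A ^ 2)⁻¹ * c)⁻¹ by group]
    exact hcB.symm.mul_left (Commute.inv_left (hcen B).symm)
  refine ⟨S, fun z hz hzS => ?_⟩
  have hSgen : (S : Subgroup Γ) ≤ Subgroup.closure ({A, B} ∪ (σ.ker : Set Γ)) :=
    Schur.le_closure_union_ker (by rw [Set.image_pair, hA, hB]; exact hS.trans hgen)
  have hcomm : ∀ d ∈ Subgroup.zpowers c, ∀ t ∈ ({A, B} ∪ (σ.ker : Set Γ)), t * d * t⁻¹ = d := by
    rintro _ ⟨i, rfl⟩ t ht
    have : Commute t c := by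
      rcases ht with (rfl | rfl) | ht
      · exact hcA
      · exact hcB
      · exact (Subgroup.mem_center_iff.1 (hσ.2.1 ht) c).symm
    rw [(this.zpow_right i).eq, mul_inv_cancel_right]
  have hle := (Subgroup.commutator_mono hSgen hSgen).trans (Schur.commutator_closure_le
    (T := {A, B} ∪ (σ.ker : Set Γ)) (N := Subgroup.zpowers c) (fun t ht d hd => (hcomm d hd t ht).symm ▸ hd)
    (fun t ht u hu => by
      rcases hu with (rfl | rfl) | hu
      · rcases ht with (rfl | rfl) | ht
        · rw [commutatorElement_self]; exact one_mem _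
        · rw [← commutatorElement_inv, ← hc]; exact inv_mem (Subgroup.mem_zpowers c)
        · rw [commutatorElement_eq_one_iff_commute.2 (Subgroup.mem_center_iff.1 (hσ.2.1 ht) _).symm]; exact one_mem _
      · rcases ht with (rfl | rfl) | ht
        · exact Subgroup.mem_zpowers c
        · rw [commutatorElement_self]; exact one_mem _
        · rw [commutatorElement_eq_one_iff_commute.2 (Subgroup.mem_center_iff.1 (hσ.2.1 ht) _).symm]; exact one_mem _
      · rw [commutatorElement_eq_one_iff_commute.2 (Subgroup.mem_center_iff.1 (hσ.2.1 hu) t)]; exact one_mem _))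
  obtain ⟨i, hi⟩ := hle hzS
  change c ^ i = z at hi
  rcases Int.even_or_odd' i with ⟨j, rfl | rfl⟩
  · rw [← hi, zpow_mul, zpow_two, ← pow_two, hc2, one_zpow]
  · exfalso
    rw [zpow_add, zpow_mul, zpow_two, ← pow_two, hc2, one_zpow, one_mul, zpow_one] at hi
    rw [MonoidHom.mem_ker, ← hi, hσc] at hz
    exact ha2 hz

variable {F : Type v} [Field F] [Fintype F]

/-- Stem extensions of `SL₂` over two or three elements are trivial. -/
theorem sl_two_small (h : Fintype.card F ≤ 3) {Γ : Type u} [Group Γ] [Finite Γ]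
    {σ : Γ →* Matrix.SpecialLinearGroup (Fin 2) F} (hσ : Cfsg.IsStemExtension σ) : σ.ker = ⊥ := by
  classical
  have h2 := Fintype.one_lt_card (α := F)
  have hcard := Classical.SLTwoTori.card_SL2 (F := F)
  refine Schur.ker_eq_bot_of_sylow hσ fun p hp => ?_
  have hq : Fintype.card F = 2 ∨ Fintype.card F = 3 := by omega
  by_cases hsq : p ^ 2 ∣ Nat.card (Matrix.SpecialLinearGroup (Fin 2) F)
  swap
  · exact Schur.exists_sylow_cyclic hσ hsq
  have hple : p ^ 2 ≤ 24 := Nat.le_of_dvd (by norm_num) (hsq.trans (by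
    rcases hq with e | e <;> rw [hcard, e] <;> norm_num))
  have hp4 : p ≤ 4 := by nlinarith
  have hp2 := hp.out.two_le
  rcases hq with e | e
  · exfalso
    rw [hcard, e] at hsq
    interval_cases p <;> norm_num at hsq
  · rw [hcard, e] at hsq
    obtain rfl : p = 2 := by interval_cases p <;> norm_num at hsq <;> rfl
    let P : Sylow 2 (Matrix.SpecialLinearGroup (Fin 2) F) := default
    obtain ⟨r, hc⟩ := CharP.exists F
    haveI : Fact r.Prime := ⟨CharP.char_is_prime F r⟩
    have hr2 : r ≠ 2 := by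
      rintro rfl
      have := FiniteField.even_card_iff_char_two.mp (ringChar.eq F 2)
      omega
    obtain ⟨k, -, ⟨eP⟩⟩ := Classical.SLTwoTori.sylow_two_quaternion r hr2 P
    have hP : Nat.card (P : Subgroup (Matrix.SpecialLinearGroup (Fin 2) F)) = 2 ^ 3 := by
      rw [P.card_eq_multiplicity, hcard, e]
      congr 1
      rw [show 3 * (3 ^ 2 - 1) = 2 ^ 3 * 3 by norm_num, Nat.factorization_mul (by norm_num) (by norm_num),
        Nat.Prime.factorization_pow Nat.prime_two, Nat.Prime.factorization Nat.prime_three]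
      simp
    have hk : k = 1 := by
      haveI : NeZero (2 ^ k) := ⟨pow_ne_zero _ two_ne_zero⟩
      rw [Nat.card_congr eP.toEquiv, Nat.card_eq_fintype_card, QuaternionGroup.card,
        show 4 * 2 ^ k = 2 ^ (k + 2) by rw [pow_add]; ring] at hP
      have := Nat.pow_right_injective (le_refl 2) hP
      omega
    subst hk
    exact exists_sylow_quaternion hσ P eP

end Cfsg.Lib.StLift
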