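import Cfsg.Agent.Known.StLift.Basic
import Cfsg.Agent.S2426
import Mathlib

/-!
The Schur multiplier of `SL (2, q)` is trivial for `q ≥ 5`, `q ≠ 9`.
-/

set_option autoImplicit false
set_option linter.style.haveILetI false
set_option linter.unusedSectionVars false

open scoped commutatorElement
open Matrix

namespace Cfsg.Lib.StLift

universe u v

variable {F : Type v} [Field F] [Fintype F]

/-- The parameter for the pairing. -/
theorem exists_param (h4 : Fintype.card F ≠ 4) (h9 : Fintype.card F ≠ 9) (hnp : ¬ (Fintype.card F).Prime) :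
    ∃ x y : F, x ≠ 0 ∧ y ≠ 0 ∧ x ^ 2 + y ^ 2 = 1 ∧ x ^ 2 * y ^ 2 ≠ 1 := by
  classical
  obtain ⟨p, hc⟩ := CharP.exists F
  haveI : Fact p.Prime := ⟨CharP.char_is_prime F p⟩
  obtain ⟨⟨k, hk0⟩, hp, hk⟩ := FiniteField.card F p
  change Fintype.card F = p ^ k at hk
  have hk2 : 2 ≤ k := by
    by_contra h
    obtain rfl : k = 1 := by omega
    exact hnp (by rw [hk, pow_one]; exact hp)
  rcases eq_or_ne p 2 with hp2 | hp2
  · subst hp2
    have h8 : 8 ≤ Fintype.card F := by
      have : 3 ≤ k := by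
        by_contra h
        obtain rfl : k = 2 := by omega
        exact h4 hk
      rw [hk]
      exact le_trans (le_of_eq (by norm_num : 8 = 2 ^ 3)) (Nat.pow_le_pow_right (by norm_num) this)
    have hadd : ∀ a : F, a + a = 0 := CharTwo.add_self_eq_zero
    let P : Polynomial F := Polynomial.X * (Polynomial.X + 1) * (Polynomial.X * (Polynomial.X + 1) + 1)
    have hP : P ≠ 0 := by
      refine mul_ne_zero (mul_ne_zero Polynomial.X_ne_zero ?_) ?_
      · intro h
        simpa using congrArg (fun q : Polynomial F => q.coeff 0) h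
      · intro h
        simpa using congrArg (fun q : Polynomial F => q.coeff 0) h
    have hd : P.natDegree ≤ 4 := by simp only [P]; compute_degree
    obtain ⟨x, hx⟩ : ∃ x : F, ¬ P.IsRoot x := by
      by_contra h
      push Not at h
      have : (Finset.univ : Finset F).card ≤ P.natDegree := Polynomial.card_le_degree_of_subset_roots
        (fun x _ => (Polynomial.mem_roots hP).2 (h x))
      rw [Finset.card_univ] at this
      omega
    simp only [P, Polynomial.IsRoot, Polynomial.eval_mul, Polynomial.eval_add, Polynomial.eval_X, Polynomial.eval_one,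
      mul_eq_zero, not_or] at hx
    refine ⟨x, x + 1, hx.1.1, hx.1.2, by linear_combination hadd (x ^ 2 + x), fun h => hx.2 ?_⟩
    have h2 : (x * (x + 1) + 1) ^ 2 = 0 := by linear_combination h + hadd 1 + hadd (x * (x + 1))
    exact eq_zero_of_pow_eq_zero h2
  · have h25 : 25 ≤ Fintype.card F := by
      have hp3 : 3 ≤ p := by have := hp.two_le; omega
      rw [hk]
      rcases Nat.lt_or_ge p 5 with h | h
      · obtain rfl : p = 3 := by
          interval_cases p
          · rfl
          · norm_num at hp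
        have : 3 ≤ k := by
          by_contra h'
          obtain rfl : k = 2 := by omega
          exact h9 hk
        exact le_trans (by norm_num : 25 ≤ 3 ^ 3) (Nat.pow_le_pow_right (by norm_num) this)
      · calc 25 = 5 ^ 2 := by norm_num
          _ ≤ p ^ 2 := Nat.pow_le_pow_left h 2
          _ ≤ p ^ k := Nat.pow_le_pow_right (by omega) hk2
    have h2 : (2 : F) ≠ 0 := fun h => hp2 <| by
      have := (CharP.cast_eq_zero_iff F p 2).1 (by exact_mod_cast h)
      exact (Nat.prime_dvd_prime_iff_eq hp Nat.prime_two).1 this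
    let R : Polynomial F := (Polynomial.X ^ 2 + 1) ^ 4 - Polynomial.C 4 * Polynomial.X ^ 2 * (1 - Polynomial.X ^ 2) ^ 2
    let P : Polynomial F := Polynomial.X * (1 - Polynomial.X ^ 2) * (Polynomial.X ^ 2 + 1) * R
    have hP : P ≠ 0 := by
      refine mul_ne_zero (mul_ne_zero (mul_ne_zero Polynomial.X_ne_zero ?_) ?_) ?_
      · intro h
        simpa using congrArg (fun q : Polynomial F => q.coeff 0) h
      · intro h
        simpa using congrArg (fun q : Polynomial F => q.coeff 0) h
      · intro h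
        have := congrArg (fun q : Polynomial F => q.eval 0) h
        simp [R] at this
    have hd : P.natDegree ≤ 13 := by simp only [P, R]; compute_degree
    obtain ⟨s, hs⟩ : ∃ s : F, ¬ P.IsRoot s := by
      by_contra h
      push Not at h
      have : (Finset.univ : Finset F).card ≤ P.natDegree := Polynomial.card_le_degree_of_subset_roots
        (fun x _ => (Polynomial.mem_roots hP).2 (h x))
      rw [Finset.card_univ] at this
      omega
    simp only [P, R, Polynomial.IsRoot, Polynomial.eval_mul, Polynomial.eval_add, Polynomial.eval_sub, Polynomial.eval_X,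
      Polynomial.eval_one, Polynomial.eval_pow, Polynomial.eval_C, mul_eq_zero, not_or] at hs
    obtain ⟨⟨⟨h0, h1⟩, h3⟩, h4'⟩ := hs
    have h3' : 1 + s ^ 2 ≠ 0 := by rwa [add_comm]
    refine ⟨2 * s / (1 + s ^ 2), (1 - s ^ 2) / (1 + s ^ 2), div_ne_zero (mul_ne_zero h2 h0) h3',
      div_ne_zero h1 h3', by field_simp; ring, fun h => h4' ?_⟩
    field_simp at h
    linear_combination -h

/-- An invariant alternating pairing is trivial. -/
theorem pairing_trivial {Γ : Type u} [Group Γ] (h4 : Fintype.card F ≠ 4) (h9 : Fintype.card F ≠ 9) (B : F → F → Γ)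
    (hl : ∀ t t' u, B (t + t') u = B t u * B t' u) (hr : ∀ t u u', B t (u + u') = B t u * B t u')
    (halt : ∀ t, B t t = 1) (hinv : ∀ r : F, r ≠ 0 → ∀ t u, B (r ^ 2 * t) (r ^ 2 * u) = B t u) : ∀ t u, B t u = 1 := by
  classical
  have r0 : ∀ t, B t 0 = 1 := fun t => by
    have h := hr t 0 0
    rw [add_zero] at h
    exact mul_eq_left.mp h.symm
  have l0 : ∀ u, B 0 u = 1 := fun u => by
    have h := hl 0 0 u
    rw [add_zero] at h
    exact mul_eq_left.mp h.symm
  by_cases hnp : (Fintype.card F).Prime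
  · haveI : Fact (Fintype.card F).Prime := ⟨hnp⟩
    haveI : CharP F (Fintype.card F) := charP_of_card_eq_prime rfl
    have hsurj : ∀ t : F, ∃ n : ℕ, (n : F) = t := fun t => by
      let φ := ZMod.castHom (dvd_refl (Fintype.card F)) F
      have hφ : Function.Bijective φ :=
        (Fintype.bijective_iff_injective_and_card φ).2 ⟨φ.injective, ZMod.card _⟩
      obtain ⟨z, rfl⟩ := hφ.2 t
      exact ⟨z.val, by rw [← map_natCast φ, ZMod.natCast_zmod_val]⟩
    have hn1 : ∀ (n : ℕ) u, B (n : F) u = B 1 u ^ n := fun n u => by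
      induction n with
      | zero => rw [Nat.cast_zero, l0, pow_zero]
      | succ n ih => rw [Nat.cast_succ, hl, ih, pow_succ]
    have hn2 : ∀ n : ℕ, B 1 (n : F) = 1 := fun n => by
      induction n with
      | zero => rw [Nat.cast_zero, r0]
      | succ n ih => rw [Nat.cast_succ, hr, ih, halt, one_mul]
    intro t u
    obtain ⟨n, rfl⟩ := hsurj t
    obtain ⟨m, rfl⟩ := hsurj u
    rw [hn1, hn2, one_pow]
  obtain ⟨x, y, hx, hy, hxy, hne⟩ := exists_param h4 h9 hnp
  have hsh : ∀ r : F, r ≠ 0 → ∀ t u, B (r ^ 2 * t) u = B t ((r ^ 2)⁻¹ * u) := fun r hr0 t u => by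
    rw [← hinv r hr0 t ((r ^ 2)⁻¹ * u), ← mul_assoc, mul_inv_cancel₀ (pow_ne_zero 2 hr0), one_mul]
  set k := (x ^ 2)⁻¹ + (y ^ 2)⁻¹ - 1 with hk
  have hk0 : k ≠ 0 := fun h => hne (by
    rw [hk] at h
    field_simp at h
    linear_combination -h + hxy)
  intro t u
  have h1 : B t (k⁻¹ * u) = B t ((k + 1) * (k⁻¹ * u)) := by
    conv_lhs => rw [show t = x ^ 2 * t + y ^ 2 * t by rw [← add_mul, hxy, one_mul]]
    rw [hl, hsh x hx, hsh y hy, ← hr, ← add_mul, show k + 1 = (x ^ 2)⁻¹ + (y ^ 2)⁻¹ by rw [hk]; ring]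
  rw [add_mul, one_mul, hr, ← mul_assoc, mul_inv_cancel₀ hk0, one_mul] at h1
  exact mul_eq_right.1 h1.symm

/-- The two root subgroups of `SL₂`. -/
def U2 (b : Bool) (t : F) : SpecialLinearGroup (Fin 2) F :=
  if b then ⟨!![1, t; 0, 1], by simp [det_fin_two]⟩ else ⟨!![1, 0; t, 1], by simp [det_fin_two]⟩

/-- A diagonal element. -/
def D2 (r : Fˣ) : SpecialLinearGroup (Fin 2) F :=
  ⟨!![(r : F), 0; 0, ((r⁻¹ : Fˣ) : F)], by simp [det_fin_two]⟩

omit [Fintype F] in
theorem coe_U2 (b : Bool) (t : F) :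
    (U2 b t : Matrix (Fin 2) (Fin 2) F) = bif b then !![1, t; 0, 1] else !![1, 0; t, 1] := by
  cases b <;> rfl

omit [Fintype F] in
theorem coe_D2 (r : Fˣ) : (D2 r : Matrix (Fin 2) (Fin 2) F) = !![(r : F), 0; 0, ((r⁻¹ : Fˣ) : F)] := rfl

omit [Fintype F] in
theorem D2_inv (r : Fˣ) : (D2 r)⁻¹ = D2 r⁻¹ := by
  refine inv_eq_of_mul_eq_one_right (Subtype.ext ?_)
  simp only [Matrix.SpecialLinearGroup.coe_mul, Matrix.SpecialLinearGroup.coe_one, coe_D2]
  simp [Matrix.one_fin_two]

omit [Fintype F] in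
theorem U2_add (b : Bool) (t u : F) : U2 b t * U2 b u = U2 b (t + u) := by
  refine Subtype.ext ?_
  simp only [Matrix.SpecialLinearGroup.coe_mul, coe_U2]
  cases b <;> simp [add_comm]

omit [Fintype F] in
theorem D2_conj (r : Fˣ) (b : Bool) (t : F) :
    D2 r * U2 b t * (D2 r)⁻¹ = U2 b ((bif b then (r : F) ^ 2 else ((r⁻¹ : Fˣ) : F) ^ 2) * t) := by
  rw [D2_inv]
  refine Subtype.ext ?_
  simp only [Matrix.SpecialLinearGroup.coe_mul, coe_U2, coe_D2]
  cases b <;> simp <;> field_simp <;> ring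

/-- Two-element sum. -/
theorem exists_sq_ne_one (h5 : 4 ≤ Fintype.card F) : ∃ s : Fˣ, (s : F) ^ 2 ≠ 1 := by
  classical
  obtain ⟨x, -, hx⟩ := Finset.exists_mem_notMem_of_card_lt_card (s := ({0, 1, -1} : Finset F)) (t := Finset.univ)
    (lt_of_le_of_lt Finset.card_le_three (by rw [Finset.card_univ]; omega))
  simp only [Finset.mem_insert, Finset.mem_singleton, not_or] at hx
  refine ⟨Units.mk0 x hx.1, fun h => ?_⟩
  rcases mul_eq_zero.1 (show (x - 1) * (x + 1) = 0 by rw [Units.val_mk0] at h; linear_combination h) with e | e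
  · exact hx.2.1 (sub_eq_zero.1 e)
  · exact hx.2.2 (eq_neg_of_add_eq_zero_left e)

/-- Stem extensions of `SL₂` are trivial. -/
theorem sl_two_ker_eq_bot (h5 : 5 ≤ Fintype.card F) (h9 : Fintype.card F ≠ 9) {Γ : Type u} [Group Γ]
    {σ : Γ →* SpecialLinearGroup (Fin 2) F} (hσ : Cfsg.IsStemExtension σ) : σ.ker = ⊥ := by
  classical
  have hs := hσ.1
  have hc := hσ.2.1
  obtain ⟨s, hs1⟩ := exists_sq_ne_one (F := F) (by omega)
  let l : Γ → Γ := id
  choose Y hY using fun (b : Bool) (t : F) => hs (U2 b t)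
  let h : Bool → SpecialLinearGroup (Fin 2) F := fun b => if b then D2 s else D2 s⁻¹
  choose H hH using fun b => hs (h b)
  have hd : (s : F) ^ 2 - 1 ≠ 0 := sub_ne_zero.2 hs1
  let g : Bool → F → Γ := fun b t => ⁅H b, Y b (((s : F) ^ 2 - 1)⁻¹ * t)⁆
  have hσg : ∀ b t, σ (g b t) = U2 b t := fun b t => by
    show σ ⁅H b, Y b _⁆ = _
    set v := ((s : F) ^ 2 - 1)⁻¹ * t
    have hh : h b * U2 b v * (h b)⁻¹ = U2 b ((s : F) ^ 2 * v) := by
      cases b <;> simp [h, D2_conj]
    have hi : (U2 b v)⁻¹ = U2 b (-v) := inv_eq_of_mul_eq_one_right (by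
      rw [U2_add, add_neg_cancel]; cases b <;> exact Subtype.ext (by simp [U2, Matrix.one_fin_two]))
    rw [map_commutatorElement, hH, hY, commutatorElement_def, hh, hi, U2_add]
    congr 1
    simp only [v]
    field_simp
    ring
  have hUc : ∀ b t u, Commute (σ (Y b t)) (σ (Y b u)) := fun b t u => by
    rw [hY, hY]; show _ * _ = _ * _; rw [U2_add, U2_add, add_comm]
  -- root subgroups lift to abelian groups
  have hab : ∀ b t u, ⁅Y b t, Y b u⁆ = 1 := fun b => by
    refine pairing_trivial (by omega) h9 _ (fun t t' u => ?_) (fun t u u' => ?_) (fun t => commutatorElement_self _)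
      fun r hr t u => ?_
    · rw [← comm_mul_left hc (hUc b t' u)]
      exact Schur.comm_congr σ hc (by rw [map_mul, hY, hY, hY, U2_add]) rfl
    · rw [← comm_mul_right hc (hUc b t u')]
      exact Schur.comm_congr σ hc rfl (by rw [map_mul, hY, hY, hY, U2_add])
    · obtain ⟨n, hn⟩ := hs (if b then D2 (Units.mk0 r hr) else D2 (Units.mk0 r hr)⁻¹)
      rw [← conj_comm hc n (Y b t) (Y b u) (Y b (r ^ 2 * t)) (Y b (r ^ 2 * u)) ?_ ?_, comm_central hc (hUc b t u),
        mul_inv_cancel_right]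
      all_goals rw [hY, hY, hn]; cases b <;> simp [D2_conj]
  have hlift : ∀ b (a : Γ) t, σ a = U2 b t → ∀ u, Commute a (Y b u) := fun b a t ha u => by
    rw [← commutatorElement_eq_one_iff_commute, Schur.comm_congr σ hc (ha.trans (hY b t).symm) rfl]
    exact hab b t u
  have hg_add : ∀ b t u, g b t * g b u = g b (t + u) := fun b t u => by
    set v := ((s : F) ^ 2 - 1)⁻¹ * t
    set w := ((s : F) ^ 2 - 1)⁻¹ * u
    have e : g b (t + u) = ⁅H b, Y b v * Y b w⁆ := Schur.comm_congr σ hc rfl (by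
      rw [map_mul, hY, hY, hY, U2_add, ← mul_add])
    have e2 : ⁅H b, Y b v * Y b w⁆ = ⁅H b, Y b v⁆ * (Y b v * ⁅H b, Y b w⁆ * (Y b v)⁻¹) := by
      simp only [commutatorElement_def]; group
    rw [e, e2, ← (hlift b (g b u) u (hσg b u) v).eq, mul_inv_cancel_right]
  have hwconj : ∀ b (t u : F), t ≠ 0 → (g b t * g (!b) (-t⁻¹) * g b t) * g b u * (g b t * g (!b) (-t⁻¹) * g b t)⁻¹ =
      g (!b) (-(t⁻¹ ^ 2 * u)) := fun b t u ht => by
    refine conj_comm hc _ _ _ _ _ ?_ ?_
    · rw [map_mul, map_mul, hσg, hσg, hH, hH]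
      refine mul_inv_eq_iff_eq_mul.2 (Subtype.ext ?_)
      cases b <;> simp only [h, Matrix.SpecialLinearGroup.coe_mul, coe_U2, coe_D2, Bool.not_true, Bool.not_false,
        cond_true, cond_false, reduceIte, Bool.false_eq_true] <;> simp <;> field_simp <;> simp
    · rw [map_mul, map_mul, hσg, hσg, hY, hY]
      refine mul_inv_eq_iff_eq_mul.2 (Subtype.ext ?_)
      cases b <;> simp only [Matrix.SpecialLinearGroup.coe_mul, coe_U2, Bool.not_true, Bool.not_false,
        cond_true, cond_false] <;> simp <;> field_simp <;> simp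
  obtain ⟨e, het, hef⟩ := Cfsg.Agent.S2426.result (K := F)
  let f : Bool × F → Γ := fun p => g p.1 p.2
  have hf : ∀ r ∈ ({g : FreeGroup (Bool × F) | ∃ (b : Bool) (t u : F), g = FreeGroup.of (b, t) * FreeGroup.of (b, u) * (FreeGroup.of (b, t + u))⁻¹} ∪
          {g | ∃ (b : Bool) (t u : F), t ≠ 0 ∧
            g = (FreeGroup.of (b, t) * FreeGroup.of (!b, -t⁻¹) * FreeGroup.of (b, t)) * FreeGroup.of (b, u) *
                  (FreeGroup.of (b, t) * FreeGroup.of (!b, -t⁻¹) * FreeGroup.of (b, t))⁻¹ * (FreeGroup.of (!b, -(t⁻¹ ^ 2 * u)))⁻¹}),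
      FreeGroup.lift f r = 1 := by
    rintro r (⟨b, t, u, rfl⟩ | ⟨b, t, u, ht, rfl⟩)
    · simp only [map_mul, map_inv, FreeGroup.lift_apply_of, mul_inv_eq_one, f, hg_add]
    · simp only [map_mul, map_inv, FreeGroup.lift_apply_of, mul_inv_eq_one, f]
      exact hwconj b t u ht
  refine ker_eq_bot_of_section hσ e.toMonoidHom e.surjective (PresentedGroup.toGroup hf) ?_ e.injective
  refine PresentedGroup.ext fun p => ?_
  obtain ⟨b, t⟩ := p
  show σ (PresentedGroup.toGroup hf (PresentedGroup.of (b, t))) = e (PresentedGroup.of (b, t))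
  rw [PresentedGroup.toGroup.of]
  show σ (g b t) = _
  rw [hσg]
  refine Subtype.ext ?_
  cases b
  · exact (hef t).symm
  · exact (het t).symm

end Cfsg.Lib.StLift
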