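import Cfsg.Agent.Schur.Criteria
import Cfsg.Agent.Schur.Perfect
import Mathlib

/-!
Commutators of lifts in central extensions.
-/

set_option autoImplicit false
set_option linter.style.haveILetI false

open scoped commutatorElement

namespace Cfsg.Lib.StLift

universe u v

variable {Γ : Type u} {Q : Type v} [Group Γ] [Group Q] {σ : Γ →* Q}

/-- Conjugation transports a commutator of lifts. -/
theorem conj_comm (hc : σ.ker ≤ Subgroup.center Γ) (n a b a' b' : Γ) (ha : σ n * σ a * (σ n)⁻¹ = σ a')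
    (hb : σ n * σ b * (σ n)⁻¹ = σ b') : n * ⁅a, b⁆ * n⁻¹ = ⁅a', b'⁆ := by
  have e : n * ⁅a, b⁆ * n⁻¹ = ⁅n * a * n⁻¹, n * b * n⁻¹⁆ := by
    simp only [commutatorElement_def]; group
  rw [e]
  exact Schur.comm_congr σ hc (by rw [map_mul, map_mul, map_inv, ha]) (by rw [map_mul, map_mul, map_inv, hb])

/-- A commutator of lifts of commuting elements is central. -/
theorem comm_central (hc : σ.ker ≤ Subgroup.center Γ) {a b : Γ} (h : Commute (σ a) (σ b)) (g : Γ) :
    g * ⁅a, b⁆ = ⁅a, b⁆ * g :=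
  Subgroup.mem_center_iff.1 (hc (show σ ⁅a, b⁆ = 1 by
    rw [map_commutatorElement, commutatorElement_eq_one_iff_commute]; exact h)) g

/-- Additivity of a central commutator in the first argument. -/
theorem comm_mul_left (hc : σ.ker ≤ Subgroup.center Γ) {a b d : Γ} (h : Commute (σ b) (σ d)) :
    ⁅a * b, d⁆ = ⁅a, d⁆ * ⁅b, d⁆ := by
  have e : ⁅a * b, d⁆ = a * ⁅b, d⁆ * a⁻¹ * ⁅a, d⁆ := by simp only [commutatorElement_def]; group
  rw [e, comm_central hc h, mul_inv_cancel_right, ← comm_central hc h ⁅a, d⁆]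

/-- Additivity of a central commutator in the second argument. -/
theorem comm_mul_right (hc : σ.ker ≤ Subgroup.center Γ) {a b d : Γ} (h : Commute (σ a) (σ d)) :
    ⁅a, b * d⁆ = ⁅a, b⁆ * ⁅a, d⁆ := by
  have e : ⁅a, b * d⁆ = ⁅a, b⁆ * (b * ⁅a, d⁆ * b⁻¹) := by simp only [commutatorElement_def]; group
  rw [e, comm_central hc h, mul_inv_cancel_right]

/-- A homomorphic section of a stem extension kills its kernel. -/
theorem ker_eq_bot_of_section {Q' : Type*} [Group Q'] (hσ : Cfsg.IsStemExtension σ) (π : Q' →* Q)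
    (hπ : Function.Surjective π) (τ : Q' →* Γ) (hτ : σ.comp τ = π) (hπi : Function.Injective π) : σ.ker = ⊥ := by
  obtain ⟨hs, hc, hd⟩ := hσ
  have hcomm : commutator Γ ≤ τ.range := by
    rw [commutator_def, Subgroup.commutator_le]
    intro a _ b _
    obtain ⟨x, hx⟩ := hπ (σ a)
    obtain ⟨y, hy⟩ := hπ (σ b)
    rw [← hτ] at hx hy
    rw [Schur.comm_congr σ hc hx.symm hy.symm, ← map_commutatorElement]
    exact ⟨_, rfl⟩
  refine (Subgroup.eq_bot_iff_forall _).2 fun k hk => ?_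
  obtain ⟨x, rfl⟩ := hcomm (hd hk)
  rw [MonoidHom.mem_ker, ← MonoidHom.comp_apply, hτ] at hk
  rw [hπi (hk.trans (map_one π).symm), map_one]

end Cfsg.Lib.StLift
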